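import Cfsg.Agent.Lib.Grp.M24.Defs

set_option autoImplicit false
set_option maxRecDepth 100000

namespace Cfsg.Agent.CG.M24

theorem c0 : allRange (chkBase 24 8 (appT tabs t73 0xff) 0 (inv 0)) 0 24 = true := by decide +kernel
theorem c1 : allRange (chkBase 24 8 (appT tabs t73 0xff) 1 (inv 1)) 0 24 = true := by decide +kernel
theorem c2 : allRange (chkBase 24 8 (appT tabs t73 0xff) 2 (inv 2)) 0 24 = true := by decide +kernel
theorem c3 : chkDef 8 (appT tabs t73 0xff) 3 (slp 3) 0 24 = true := by decide +kernel
theorem c4 : chkDef 8 (appT tabs t73 0xff) 4 (slp 4) 0 24 = true := by decide +kernel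
theorem c5 : chkDef 8 (appT tabs t73 0xff) 5 (slp 5) 0 24 = true := by decide +kernel
theorem c6 : chkDef 8 (appT tabs t73 0xff) 6 (slp 6) 0 24 = true := by decide +kernel
theorem c7 : chkDef 8 (appT tabs t73 0xff) 7 (slp 7) 0 24 = true := by decide +kernel
theorem c8 : chkDef 8 (appT tabs t73 0xff) 8 (slp 8) 0 24 = true := by decide +kernel
theorem c9 : chkDef 8 (appT tabs t73 0xff) 9 (slp 9) 0 24 = true := by decide +kernel
theorem c10 : chkDef 8 (appT tabs t73 0xff) 10 (slp 10) 0 24 = true := by decide +kernel
theorem c11 : chkDef 8 (appT tabs t73 0xff) 11 (slp 11) 0 24 = true := by decide +kernel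
theorem c12 : chkDef 8 (appT tabs t73 0xff) 12 (slp 12) 0 24 = true := by decide +kernel
theorem c13 : chkDef 8 (appT tabs t73 0xff) 13 (slp 13) 0 24 = true := by decide +kernel
theorem c14 : chkDef 8 (appT tabs t73 0xff) 14 (slp 14) 0 24 = true := by decide +kernel
theorem c15 : chkDef 8 (appT tabs t73 0xff) 15 (slp 15) 0 24 = true := by decide +kernel
theorem c16 : chkDef 8 (appT tabs t73 0xff) 16 (slp 16) 0 24 = true := by decide +kernel
theorem c17 : chkDef 8 (appT tabs t73 0xff) 17 (slp 17) 0 24 = true := by decide +kernel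
theorem c18 : chkDef 8 (appT tabs t73 0xff) 18 (slp 18) 0 24 = true := by decide +kernel
theorem c19 : chkDef 8 (appT tabs t73 0xff) 19 (slp 19) 0 24 = true := by decide +kernel
theorem c20 : chkDef 8 (appT tabs t73 0xff) 20 (slp 20) 0 24 = true := by decide +kernel
theorem c21 : chkDef 8 (appT tabs t73 0xff) 21 (slp 21) 0 24 = true := by decide +kernel
theorem c22 : chkDef 8 (appT tabs t73 0xff) 22 (slp 22) 0 24 = true := by decide +kernel
theorem c23 : chkDef 8 (appT tabs t73 0xff) 23 (slp 23) 0 24 = true := by decide +kernel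
theorem c24 : chkDef 8 (appT tabs t73 0xff) 24 (slp 24) 0 24 = true := by decide +kernel
theorem c25 : chkDef 8 (appT tabs t73 0xff) 25 (slp 25) 0 24 = true := by decide +kernel
theorem c26 : chkDef 8 (appT tabs t73 0xff) 26 (slp 26) 0 24 = true := by decide +kernel
theorem c27 : chkDef 8 (appT tabs t73 0xff) 27 (slp 27) 0 24 = true := by decide +kernel
theorem c28 : chkDef 8 (appT tabs t73 0xff) 28 (slp 28) 0 24 = true := by decide +kernel
theorem c29 : chkDef 8 (appT tabs t73 0xff) 29 (slp 29) 0 24 = true := by decide +kernel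
theorem c30 : chkDef 8 (appT tabs t73 0xff) 30 (slp 30) 0 24 = true := by decide +kernel
theorem c31 : chkDef 8 (appT tabs t73 0xff) 31 (slp 31) 0 24 = true := by decide +kernel
theorem c32 : chkDef 8 (appT tabs t73 0xff) 32 (slp 32) 0 24 = true := by decide +kernel
theorem c33 : chkDef 8 (appT tabs t73 0xff) 33 (slp 33) 0 24 = true := by decide +kernel
theorem c34 : chkDef 8 (appT tabs t73 0xff) 34 (slp 34) 0 24 = true := by decide +kernel
theorem c35 : chkDef 8 (appT tabs t73 0xff) 35 (slp 35) 0 24 = true := by decide +kernel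
theorem c36 : chkDef 8 (appT tabs t73 0xff) 36 (slp 36) 0 24 = true := by decide +kernel
theorem c37 : chkDef 8 (appT tabs t73 0xff) 37 (slp 37) 0 24 = true := by decide +kernel
theorem c38 : chkDef 8 (appT tabs t73 0xff) 38 (slp 38) 0 24 = true := by decide +kernel
theorem c39 : chkDef 8 (appT tabs t73 0xff) 39 (slp 39) 0 24 = true := by decide +kernel
theorem c40 : chkDef 8 (appT tabs t73 0xff) 40 (slp 40) 0 24 = true := by decide +kernel
theorem c41 : chkDef 8 (appT tabs t73 0xff) 41 (slp 41) 0 24 = true := by decide +kernel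
theorem c42 : chkDef 8 (appT tabs t73 0xff) 42 (slp 42) 0 24 = true := by decide +kernel
theorem c43 : chkDef 8 (appT tabs t73 0xff) 43 (slp 43) 0 24 = true := by decide +kernel
theorem c44 : chkDef 8 (appT tabs t73 0xff) 44 (slp 44) 0 24 = true := by decide +kernel
theorem c45 : chkDef 8 (appT tabs t73 0xff) 45 (slp 45) 0 24 = true := by decide +kernel
theorem c46 : chkDef 8 (appT tabs t73 0xff) 46 (slp 46) 0 24 = true := by decide +kernel
theorem c47 : chkDef 8 (appT tabs t73 0xff) 47 (slp 47) 0 24 = true := by decide +kernel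
theorem c48 : chkDef 8 (appT tabs t73 0xff) 48 (slp 48) 0 24 = true := by decide +kernel
theorem c49 : chkDef 8 (appT tabs t73 0xff) 49 (slp 49) 0 24 = true := by decide +kernel
theorem c50 : chkDef 8 (appT tabs t73 0xff) 50 (slp 50) 0 24 = true := by decide +kernel
theorem c51 : chkDef 8 (appT tabs t73 0xff) 51 (slp 51) 0 24 = true := by decide +kernel
theorem c52 : chkDef 8 (appT tabs t73 0xff) 52 (slp 52) 0 24 = true := by decide +kernel
theorem c53 : chkDef 8 (appT tabs t73 0xff) 53 (slp 53) 0 24 = true := by decide +kernel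
theorem c54 : chkDef 8 (appT tabs t73 0xff) 54 (slp 54) 0 24 = true := by decide +kernel
theorem c55 : chkDef 8 (appT tabs t73 0xff) 55 (slp 55) 0 24 = true := by decide +kernel
theorem c56 : chkDef 8 (appT tabs t73 0xff) 56 (slp 56) 0 24 = true := by decide +kernel
theorem c57 : chkDef 8 (appT tabs t73 0xff) 57 (slp 57) 0 24 = true := by decide +kernel
theorem c58 : chkDef 8 (appT tabs t73 0xff) 58 (slp 58) 0 24 = true := by decide +kernel
theorem c59 : chkDef 8 (appT tabs t73 0xff) 59 (slp 59) 0 24 = true := by decide +kernel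
theorem c60 : chkDef 8 (appT tabs t73 0xff) 60 (slp 60) 0 24 = true := by decide +kernel
theorem c61 : chkDef 8 (appT tabs t73 0xff) 61 (slp 61) 0 24 = true := by decide +kernel
theorem c62 : chkDef 8 (appT tabs t73 0xff) 62 (slp 62) 0 24 = true := by decide +kernel
theorem c63 : chkDef 8 (appT tabs t73 0xff) 63 (slp 63) 0 24 = true := by decide +kernel
theorem c64 : chkDef 8 (appT tabs t73 0xff) 64 (slp 64) 0 24 = true := by decide +kernel
theorem c65 : chkDef 8 (appT tabs t73 0xff) 65 (slp 65) 0 24 = true := by decide +kernel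
theorem c66 : chkDef 8 (appT tabs t73 0xff) 66 (slp 66) 0 24 = true := by decide +kernel
theorem c67 : chkDef 8 (appT tabs t73 0xff) 67 (slp 67) 0 24 = true := by decide +kernel
theorem c68 : chkDef 8 (appT tabs t73 0xff) 68 (slp 68) 0 24 = true := by decide +kernel
theorem c69 : chkDef 8 (appT tabs t73 0xff) 69 (slp 69) 0 24 = true := by decide +kernel
theorem c70 : chkDef 8 (appT tabs t73 0xff) 70 (slp 70) 0 24 = true := by decide +kernel
theorem c71 : chkDef 8 (appT tabs t73 0xff) 71 (slp 71) 0 24 = true := by decide +kernel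
theorem c72 : chkDef 8 (appT tabs t73 0xff) 72 (slp 72) 0 24 = true := by decide +kernel
theorem c73 : chkDef 8 (appT tabs t73 0xff) 73 (false, []) 0 24 = true := by decide +kernel
theorem c74 : mc0.chk (appT tabs t73 0xff) 1 23 = true := by decide +kernel
theorem c75 : mc1.chk (appT tabs t73 0xff) 1 22 = true := by decide +kernel
theorem c76 : mc2.chk (appT tabs t73 0xff) 1 21 = true := by decide +kernel
theorem c77 : mc3.chk (appT tabs t73 0xff) 1 20 = true := by decide +kernel
theorem c78 : mc4.chk (appT tabs t73 0xff) 1 19 = true := by decide +kernel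
theorem c79 : mc5.chk (appT tabs t73 0xff) 1 2 = true := by decide +kernel
theorem c80 : mc6.chk (appT tabs t73 0xff) 1 15 = true := by decide +kernel
theorem c81 : okcb 24 8 (bases mc) = true := by decide +kernel
theorem c82 : headAll (appT tabs t73 0xff) mc [] = true := by decide +kernel
theorem c83 : tc0.head tcR = true := by decide +kernel
theorem c84 : allL (fun a => tc0.chk a 0 tc0.N) tc0.S = true := by decide +kernel
theorem c85 : tc1.head tcR = true := by decide +kernel
theorem c86 : allL (fun a => tc1.chk a 0 tc1.N) tc1.S = true := by decide +kernel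
theorem c87 : tc2.head tcR = true := by decide +kernel
theorem c88 : allL (fun a => tc2.chk a 0 tc2.N) tc2.S = true := by decide +kernel
theorem c89 : tc3.head tcR = true := by decide +kernel
theorem c90 : allL (fun a => tc3.chk a 0 tc3.N) tc3.S = true := by decide +kernel
theorem c91 : tc4.head tcR = true := by decide +kernel
theorem c92 : allL (fun a => tc4.chk a 0 tc4.N) tc4.S = true := by decide +kernel
theorem c93 : tc5.head tcR = true := by decide +kernel
theorem c94 : allL (fun a => tc5.chk a 0 tc5.N) tc5.S = true := by decide +kernel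
theorem c95 : tc6.head tcR = true := by decide +kernel
theorem c96 : allL (fun a => tc6.chk a 0 tc6.N) tc6.S = true := by decide +kernel
theorem c97 : tcLink tc [] [38,39,40,41,42,43,44,45,46,47,48] = true := by decide +kernel
theorem c98 : oneAll 8 (appT tabs t73 0xff) [38,38] 0 24 = true := by decide +kernel
theorem c99 : oneAll 8 (appT tabs t73 0xff) [39,39] 0 24 = true := by decide +kernel
theorem c100 : oneAll 8 (appT tabs t73 0xff) [40,40] 0 24 = true := by decide +kernel
theorem c101 : oneAll 8 (appT tabs t73 0xff) [41,41] 0 24 = true := by decide +kernel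
theorem c102 : oneAll 8 (appT tabs t73 0xff) [38,39,38,39] 0 24 = true := by decide +kernel
theorem c103 : oneAll 8 (appT tabs t73 0xff) [38,40,38,40] 0 24 = true := by decide +kernel
theorem c104 : oneAll 8 (appT tabs t73 0xff) [38,41,38,41] 0 24 = true := by decide +kernel
theorem c105 : oneAll 8 (appT tabs t73 0xff) [39,40,39,40] 0 24 = true := by decide +kernel
theorem c106 : oneAll 8 (appT tabs t73 0xff) [39,41,39,41] 0 24 = true := by decide +kernel
theorem c107 : oneAll 8 (appT tabs t73 0xff) [40,41,40,41] 0 24 = true := by decide +kernel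
theorem c108 : oneAll 8 (appT tabs t73 0xff) [42,43] 0 24 = true := by decide +kernel
theorem c109 : oneAll 8 (appT tabs t73 0xff) [43,42] 0 24 = true := by decide +kernel
theorem c110 : oneAll 8 (appT tabs t73 0xff) [42,42,42] 0 24 = true := by decide +kernel
theorem c111 : oneAll 8 (appT tabs t73 0xff) [42,38,43,41] 0 24 = true := by decide +kernel
theorem c112 : oneAll 8 (appT tabs t73 0xff) [43,38,42,38,41] 0 24 = true := by decide +kernel
theorem c113 : oneAll 8 (appT tabs t73 0xff) [43,39,42,38,40] 0 24 = true := by decide +kernel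
theorem c114 : oneAll 8 (appT tabs t73 0xff) [42,39,43,38,39,40] 0 24 = true := by decide +kernel
theorem c115 : oneAll 8 (appT tabs t73 0xff) [44,44] 0 24 = true := by decide +kernel
theorem c116 : oneAll 8 (appT tabs t73 0xff) [44,41,42,44,41,42] 0 24 = true := by decide +kernel
theorem c117 : oneAll 8 (appT tabs t73 0xff) [44,41,44,38,44,42] 0 24 = true := by decide +kernel
theorem c118 : oneAll 8 (appT tabs t73 0xff) [44,39,44,39,44,39] 0 24 = true := by decide +kernel
theorem c119 : oneAll 8 (appT tabs t73 0xff) [44,40,44,40,44,40] 0 24 = true := by decide +kernel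
theorem c120 : oneAll 8 (appT tabs t73 0xff) [45,45] 0 24 = true := by decide +kernel
theorem c121 : oneAll 8 (appT tabs t73 0xff) [45,40,45,40] 0 24 = true := by decide +kernel
theorem c122 : oneAll 8 (appT tabs t73 0xff) [45,41,45,41] 0 24 = true := by decide +kernel
theorem c123 : oneAll 8 (appT tabs t73 0xff) [45,42,45,42] 0 24 = true := by decide +kernel
theorem c124 : oneAll 8 (appT tabs t73 0xff) [45,44,41,45,44,45,41,44,41] 0 24 = true := by decide +kernel
theorem c125 : oneAll 8 (appT tabs t73 0xff) [46,46] 0 24 = true := by decide +kernel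
theorem c126 : oneAll 8 (appT tabs t73 0xff) [46,40,46,40,46,40] 0 24 = true := by decide +kernel
theorem c127 : oneAll 8 (appT tabs t73 0xff) [46,38,42,45,46,41,42,44] 0 24 = true := by decide +kernel
theorem c128 : oneAll 8 (appT tabs t73 0xff) [46,40,44,46,40,44,40,41,45] 0 24 = true := by decide +kernel
theorem c129 : oneAll 8 (appT tabs t73 0xff) [46,38,41,46,41,38,46,38,41] 0 24 = true := by decide +kernel
theorem c130 : oneAll 8 (appT tabs t73 0xff) [45,46,45,44,45,46,45,44] 0 24 = true := by decide +kernel
theorem c131 : oneAll 8 (appT tabs t73 0xff) [47,47] 0 24 = true := by decide +kernel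
theorem c132 : oneAll 8 (appT tabs t73 0xff) [47,39,47,39] 0 24 = true := by decide +kernel
theorem c133 : oneAll 8 (appT tabs t73 0xff) [47,40,47,40] 0 24 = true := by decide +kernel
theorem c134 : oneAll 8 (appT tabs t73 0xff) [47,38,47,38,39] 0 24 = true := by decide +kernel
theorem c135 : oneAll 8 (appT tabs t73 0xff) [47,41,47,39,40,41] 0 24 = true := by decide +kernel
theorem c136 : oneAll 8 (appT tabs t73 0xff) [47,45,39,45,47,39,40] 0 24 = true := by decide +kernel
theorem c137 : oneAll 8 (appT tabs t73 0xff) [47,45,38,45,47,38,40,41] 0 24 = true := by decide +kernel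
theorem c138 : oneAll 8 (appT tabs t73 0xff) [47,45,47,45,47,45,47,45] 0 24 = true := by decide +kernel
theorem c139 : oneAll 8 (appT tabs t73 0xff) [47,44,40,47,44,47,40,44,40] 0 24 = true := by decide +kernel
theorem c140 : oneAll 8 (appT tabs t73 0xff) [47,46,38,40,46,39,46,47,42] 0 24 = true := by decide +kernel
theorem c141 : oneAll 8 (appT tabs t73 0xff) [43,47,45,44,45,46,47,42,46] 0 24 = true := by decide +kernel
theorem c142 : oneAll 8 (appT tabs t73 0xff) [48,48] 0 24 = true := by decide +kernel
theorem c143 : oneAll 8 (appT tabs t73 0xff) [48,41,48,41] 0 24 = true := by decide +kernel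
theorem c144 : oneAll 8 (appT tabs t73 0xff) [48,42,48,42] 0 24 = true := by decide +kernel
theorem c145 : oneAll 8 (appT tabs t73 0xff) [48,45,48,45] 0 24 = true := by decide +kernel
theorem c146 : oneAll 8 (appT tabs t73 0xff) [48,40,48,40,41] 0 24 = true := by decide +kernel
theorem c147 : oneAll 8 (appT tabs t73 0xff) [38,42,48,44,48,41,44] 0 24 = true := by decide +kernel
theorem c148 : oneAll 8 (appT tabs t73 0xff) [38,48,46,41,46,48,38,46] 0 24 = true := by decide +kernel
theorem c149 : oneAll 8 (appT tabs t73 0xff) [42,47,43,48,47,48,42,47,48] 0 24 = true := by decide +kernel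
theorem c150 : eqAll 8 (appT tabs t73 0xff) [0] (nth inW [] 0) 0 24 = true := by decide +kernel
theorem c151 : eqAll 8 (appT tabs t73 0xff) [1] (nth inW [] 1) 0 24 = true := by decide +kernel
theorem c152 : eqAll 8 (appT tabs t73 0xff) [2] (nth inW [] 2) 0 24 = true := by decide +kernel

end Cfsg.Agent.CG.M24
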