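import Cfsg.Agent.Lib.Grp.M24.D0

set_option autoImplicit false
set_option maxRecDepth 100000

namespace Cfsg.Agent.CG.M24

noncomputable def tabs : List ℕ := [t0,t1,t2,t3,t4,t5,t6,t7,t8,t9,t10,t11,t12,t13,t14,t15,t16,t17,t18,t19,t20,t21,t22,t23,t24,t25,t26,t27,t28,t29,t30,t31,t32,t33,t34,t35,t36,t37,t38,t39,t40,t41,t42,t43,t44,t45,t46,t47,t48,t49,t50,t51,t52,t53,t54,t55,t56,t57,t58,t59,t60,t61,t62,t63,t64,t65,t66,t67,t68,t69,t70,t71,t72]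
noncomputable abbrev app : ℕ → ℕ → ℕ := appT tabs t73 0xff
noncomputable def slpL : List (Bool × List ℕ) := [(false,[]),
  (false,[]),
  (false,[]),
  (false,[1,0]),
  (true,[3]),
  (false,[1,0,2,0,2,0]),
  (true,[5]),
  (false,[5,5,5,5,5,5]),
  (false,[3]),
  (true,[8]),
  (false,[2,0,3,0,6,6,0,1,0,5,1,0,7,0,2,6,0,2,0,5,5,0,4,0,1]),
  (false,[10,9,10,9,9,10,9]),
  (false,[11,10,11,8,10,11,9]),
  (true,[12]),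
  (false,[10,9,10,12,10,11,9]),
  (true,[14]),
  (false,[9,10,12,10,9,10,8,14,14,13,14]),
  (true,[16]),
  (false,[9,13,10,11,12,10,13,10,12,14]),
  (true,[18]),
  (false,[18,18,17,9,13,11,12,15,10,8,10]),
  (true,[20]),
  (false,[18,18,17,8,12,11,10,12,9,11,12,10,15]),
  (true,[22]),
  (false,[21,22,16,18,17,8,13,10,11,15,10,14,11,8]),
  (true,[24]),
  (false,[23,18,18,15,8,13,15,8,12,10,15]),
  (true,[26]),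
  (false,[24,24,27,21,19,16,8,14,11,9,12,11,12,10,11,13,9]),
  (true,[28]),
  (false,[25,27,27,21,21,21,16,18,14,13,15,8,11,15,12,15,9,9]),
  (true,[30]),
  (false,[31,26,23,20,19,19,8,13,14,11,14,8,10,11,10]),
  (true,[32]),
  (false,[33,29,31,28,24,24,27,22,21,16,18,17,12,8,13,13,14,9,12,11]),
  (false,[29,30,25,27,27,20,23,19,19,11,15,10,8,14,9,12,14]),
  (false,[33,29,30,28,24,27,22,19,19,17,8,11,8,10,9,14,14,11]),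
  (false,[32,29,31,28,25,25,27,21,22,20,20,17,12,10,8,14,8,13,9,13,13]),
  (false,[37,35,34]),
  (false,[37,36]),
  (false,[37]),
  (false,[37,34]),
  (false,[32,37,35,34]),
  (true,[42]),
  (false,[29,30,28,37,36,35]),
  (false,[26,26,28,28,32,37]),
  (false,[21,21,23,20,25,30,28,33,37,36,35]),
  (false,[17,18,16,16,20,22,22,30,28,32,37,35]),
  (false,[12,9,18,23,24,27,28,31,29,36,35]),
  (false,[31,29,29,33,37,34]),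
  (false,[28,31,29,33,35]),
  (false,[25,26,24,31,29,30,28,33,37,36,35]),
  (false,[23,20,26,25,28,30,28,34]),
  (false,[11,15,9,18,18,23,26,25,29,37,36,35,34]),
  (false,[12,9,18,22,22,21,24,26,25,31,29,37,35]),
  (false,[12,15,18,20,20,20,25,28,33,36,35,34]),
  (true,[55]),
  (false,[15,9,16,16,23,20,22,27,27,28,28,35,34]),
  (true,[57]),
  (false,[16,19,19,23,20,22,26,25,28,31,29,32,36]),
  (true,[59]),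
  (false,[20,20,26,28,28,30,28,33,36,35]),
  (true,[61]),
  (false,[20,20,24,26,25,31,29,37,36,34]),
  (true,[63]),
  (false,[25,26,31,29,29,35]),
  (true,[65]),
  (false,[26,24,24,29,37,36,35,34]),
  (true,[67]),
  (false,[31,29,37,36,34]),
  (false,[31,29,29,33,37,34]),
  (false,[8,8,8,8,8]),
  (true,[71])]
noncomputable def slp (a : ℕ) : Bool × List ℕ := nth slpL (false, []) a
noncomputable def invL : List ℕ := [0,2,1,4,3,6,5,7,9,8,10,11,13,12,15,14,17,16,19,18,21,20,23,22,25,24,27,26,29,28,31,30,33,32,34,35,36,37,38,39,40,41,43,42,44,45,46,47,48,49,50,51,52,53,54,56,55,58,57,60,59,62,61,64,63,66,65,68,67,69,70,72,71]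
noncomputable def inv (a : ℕ) : ℕ := nth invL 73 a
noncomputable def bs : List ℕ := [0,136,176,8,160,96,144]
noncomputable def mc0 : Lvl := ⟨0, [8,9,10,11,12,13,14,15], 24,
  fun i => look 0xff mc0c (Nat.mul 8 i), fun i => look 0xff mc0p (Nat.mul 8 i),
  fun i => look 255 mc0l (Nat.mul 8 i), fun i => look 255 mc0i (Nat.mul 8 i), fun x => look 0xff mc0q x, 3⟩
noncomputable def mc1 : Lvl := ⟨136, [16,17,18,19], 23,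
  fun i => look 0xff mc1c (Nat.mul 8 i), fun i => look 0xff mc1p (Nat.mul 8 i),
  fun i => look 255 mc1l (Nat.mul 8 i), fun i => look 255 mc1i (Nat.mul 8 i), fun x => look 0xff mc1q x, 4⟩
noncomputable def mc2 : Lvl := ⟨176, [20,21,22,23], 22,
  fun i => look 0xff mc2c (Nat.mul 8 i), fun i => look 0xff mc2p (Nat.mul 8 i),
  fun i => look 255 mc2l (Nat.mul 8 i), fun i => look 255 mc2i (Nat.mul 8 i), fun x => look 0xff mc2q x, 4⟩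
noncomputable def mc3 : Lvl := ⟨8, [24,25,26,27], 21,
  fun i => look 0xff mc3c (Nat.mul 8 i), fun i => look 0xff mc3p (Nat.mul 8 i),
  fun i => look 255 mc3l (Nat.mul 8 i), fun i => look 255 mc3i (Nat.mul 8 i), fun x => look 0xff mc3q x, 3⟩
noncomputable def mc4 : Lvl := ⟨160, [28,29,30,31], 20,
  fun i => look 0xff mc4c (Nat.mul 8 i), fun i => look 0xff mc4p (Nat.mul 8 i),
  fun i => look 255 mc4l (Nat.mul 8 i), fun i => look 255 mc4i (Nat.mul 8 i), fun x => look 0xff mc4q x, 4⟩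
noncomputable def mc5 : Lvl := ⟨96, [32,33], 3,
  fun i => look 0xff mc5c (Nat.mul 8 i), fun i => look 0xf mc5p (Nat.mul 4 i),
  fun i => look 255 mc5l (Nat.mul 8 i), fun i => look 255 mc5i (Nat.mul 8 i), fun x => look 0xff mc5q x, 1⟩
noncomputable def mc6 : Lvl := ⟨144, [34,35,36,37], 16,
  fun i => look 0xff mc6c (Nat.mul 8 i), fun i => look 0xff mc6p (Nat.mul 8 i),
  fun i => look 255 mc6l (Nat.mul 8 i), fun i => look 255 mc6i (Nat.mul 8 i), fun x => look 0xff mc6q x, 4⟩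
noncomputable def mc : List Lvl := [mc0, mc1, mc2, mc3, mc4, mc5, mc6]
noncomputable def tcR : List (List ℕ) := [[38,38],
  [39,39],
  [40,40],
  [41,41],
  [38,39,38,39],
  [38,40,38,40],
  [38,41,38,41],
  [39,40,39,40],
  [39,41,39,41],
  [40,41,40,41],
  [42,43],
  [43,42],
  [42,42,42],
  [42,38,43,41],
  [43,38,42,38,41],
  [43,39,42,38,40],
  [42,39,43,38,39,40],
  [44,44],
  [44,41,42,44,41,42],
  [44,41,44,38,44,42],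
  [44,39,44,39,44,39],
  [44,40,44,40,44,40],
  [45,45],
  [45,40,45,40],
  [45,41,45,41],
  [45,42,45,42],
  [45,44,41,45,44,45,41,44,41],
  [46,46],
  [46,40,46,40,46,40],
  [46,38,42,45,46,41,42,44],
  [46,40,44,46,40,44,40,41,45],
  [46,38,41,46,41,38,46,38,41],
  [45,46,45,44,45,46,45,44],
  [47,47],
  [47,39,47,39],
  [47,40,47,40],
  [47,38,47,38,39],
  [47,41,47,39,40,41],
  [47,45,39,45,47,39,40],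
  [47,45,38,45,47,38,40,41],
  [47,45,47,45,47,45,47,45],
  [47,44,40,47,44,47,40,44,40],
  [47,46,38,40,46,39,46,47,42],
  [43,47,45,44,45,46,47,42,46],
  [48,48],
  [48,41,48,41],
  [48,42,48,42],
  [48,45,48,45],
  [48,40,48,40,41],
  [38,42,48,44,48,41,44],
  [38,48,46,41,46,48,38,46],
  [42,47,43,48,47,48,42,47,48]]
noncomputable def tc0T : List ℕ := [0,0,0,0,0,0,0,0,0,0,0,0,0,0,0,0,0,0,0,0,0,0,0,0,0,0,0,0,0,0,0,0,0,0,0,0,0,0,tc0t38,tc0t39,tc0t40,tc0t41,tc0t42,tc0t43,tc0t44,tc0t45,tc0t46,tc0t47,tc0t48]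
noncomputable def tc0r : Tr Rule := (.node (.node (.node (.node (.node (.node (.node (.leaf ⟨48,[48],44,1⟩) (.leaf ⟨46,[38,42,45,46,41,42,44],29,0⟩)) (.leaf ⟨44,[40,44,40,44,40],21,4⟩)) (.node (.node (.leaf ⟨40,[41,40,41],9,2⟩) (.leaf ⟨41,[46,38,41,46,41,38,46,38],31,8⟩)) (.leaf ⟨46,[38,48,46,41,46,48,38],50,7⟩))) (.node (.node (.node (.leaf ⟨43,[42],10,1⟩) (.leaf ⟨39,[38,39,38],4,3⟩)) (.leaf ⟨44,[48,41,44,38,42,48],49,3⟩)) (.node (.node (.leaf ⟨45,[42,45,42],25,2⟩) (.leaf ⟨48,[44,48,41,44,38,42],49,2⟩)) (.leaf ⟨42,[38,43,41],13,0⟩)))) (.node (.node (.node (.node (.leaf ⟨38,[38],0,1⟩) (.leaf ⟨45,[44,45,46,47,42,46,43,47],43,2⟩)) (.leaf ⟨38,[45,47,38,40,41,47,45],39,2⟩)) (.node (.node (.leaf ⟨42,[48,42,48],46,3⟩) (.leaf ⟨47,[45,44,45,46,47,42,46,43],43,1⟩)) (.leaf ⟨44,[38,44,42,44,41],19,2⟩))) (.node (.node (.node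 (.leaf ⟨38,[40,38,40],5,2⟩) (.leaf ⟨40,[46,40,46,40,46],28,3⟩)) (.leaf ⟨47,[38,39,47,38],36,2⟩)) (.node (.node (.leaf ⟨39,[42,38,40,43],15,1⟩) (.leaf ⟨48,[40,48,40,41],48,0⟩)) (.leaf ⟨47,[40,47,40],35,2⟩))))) (.node (.node (.node (.node (.node (.leaf ⟨44,[44],17,1⟩) (.leaf ⟨46,[47,42,47,46,38,40,46,39],42,6⟩)) (.leaf ⟨44,[39,44,39,44,39],20,4⟩)) (.node (.node (.leaf ⟨42,[42,42],12,2⟩) (.leaf ⟨42,[44,41,44,38,44],19,5⟩)) (.leaf ⟨42,[45,42,45],25,3⟩))) (.node (.node (.node (.leaf ⟨46,[46],27,1⟩) (.leaf ⟨44,[46,38,42,45,46,41,42],29,7⟩)) (.leaf ⟨47,[44,40,47,44,47,40,44,40],41,0⟩)) (.node (.node (.leaf ⟨40,[47,40,47],35,3⟩) (.leaf ⟨48,[41,48,41],45,2⟩)) (.leaf ⟨40,[42,39,43,38,39],16,5⟩)))) (.node (.node (.node (.node (.leaf ⟨40,[40],2,1⟩) (.leaf ⟨42,[45,42,45],25,1⟩)) (.leaf ⟨40,[43,39,42,38],15,4⟩)) (.node (.node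 (.leaf ⟨45,[48,45,48],47,3⟩) (.leaf ⟨48,[45,48,45],47,2⟩)) (.leaf ⟨42,[42,42],12,1⟩))) (.node (.node (.node (.leaf ⟨39,[40,39,40],7,2⟩) (.leaf ⟨38,[40,46,39,46,47,42,47,46],42,2⟩)) (.leaf ⟨47,[41,47,39,40,41],37,0⟩)) (.node (.node (.leaf ⟨39,[47,39,47],34,3⟩) (.leaf ⟨48,[46,41,46,48,38,46,38],50,1⟩)) (.leaf ⟨46,[43,47,45,44,45,46,47,42],43,8⟩)))))) (.node (.node (.node (.node (.node (.node (.leaf ⟨47,[47],33,1⟩) (.leaf ⟨46,[40,46,40,46,40],28,2⟩)) (.leaf ⟨38,[47,38,39,47],36,1⟩)) (.node (.node (.leaf ⟨38,[41,38,41],6,0⟩) (.leaf ⟨44,[46,40,44,40,41,45,46,40],30,2⟩)) (.leaf ⟨42,[47,46,38,40,46,39,46,47],42,8⟩))) (.node (.node (.node (.leaf ⟨42,[43],10,0⟩) (.leaf ⟨40,[38,40,38],5,3⟩)) (.leaf ⟨47,[40,44,40,47,44,40,47,44],41,5⟩)) (.node (.node (.leaf ⟨40,[41,48,40,48],48,3⟩) (.leaf ⟨48,[42,48,42],46,2⟩)) (.leaf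 ⟨44,[41,42,44,41,42],18,3⟩)))) (.node (.node (.node (.node (.leaf ⟨39,[39],1,1⟩) (.leaf ⟨45,[40,45,40],23,2⟩)) (.leaf ⟨41,[42,38,43],13,3⟩)) (.node (.node (.leaf ⟨38,[43,41,42],13,1⟩) (.leaf ⟨48,[42,47,48,42,47,43,48,47],51,5⟩)) (.leaf ⟨43,[41,42,38],13,2⟩))) (.node (.node (.node (.leaf ⟨38,[41,38,41],6,2⟩) (.leaf ⟨47,[46,38,40,46,39,46,47,42],42,0⟩)) (.leaf ⟨39,[47,38,47,38],36,4⟩)) (.node (.node (.leaf ⟨41,[47,39,40,41,47],37,1⟩) (.leaf ⟨48,[38,46,38,48,46,41,46],50,5⟩)) (.leaf ⟨43,[38,39,40,42,39],16,2⟩))))) (.node (.node (.node (.node (.node (.leaf ⟨45,[45],22,1⟩) (.leaf ⟨46,[38,40,46,39,46,47,42,47],42,1⟩)) (.leaf ⟨39,[45,47,39,40,47,45],38,2⟩)) (.node (.node (.leaf ⟨41,[48,41,48],45,3⟩) (.leaf ⟨45,[46,41,42,44,46,38,42],29,3⟩)) (.leaf ⟨42,[44,41,42,44,41],18,5⟩))) (.node (.node (.node (.leaf ⟨38,[39,38,39],4,2⟩)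 (.leaf ⟨46,[45,44,45,46,45,44,45],32,5⟩)) (.leaf ⟨47,[39,47,39],34,2⟩)) (.node (.node (.leaf ⟨40,[45,40,45],23,3⟩) (.leaf ⟨48,[40,41,48,40],48,2⟩)) (.leaf ⟨41,[40,41,40],9,1⟩)))) (.node (.node (.node (.node (.leaf ⟨41,[41],3,1⟩) (.leaf ⟨45,[41,45,41],24,2⟩)) (.leaf ⟨39,[43,38,39,40,42],16,1⟩)) (.node (.node (.leaf ⟨45,[47,45,47,45,47,45,47],40,5⟩) (.leaf ⟨48,[41,44,38,42,48,44],49,4⟩)) (.leaf ⟨43,[39,42,38,40],15,0⟩))) (.node (.node (.node (.leaf ⟨39,[41,39,41],8,2⟩) (.leaf ⟨39,[46,47,42,47,46,38,40,46],42,5⟩)) (.leaf ⟨40,[47,40,47],35,1⟩)) (.node (.leaf ⟨41,[45,41,45],24,3⟩) (.leaf ⟨46,[41,42,44,46,38,42,45],29,4⟩)))))))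
noncomputable def tc0 : TCL := ⟨[38,39,40,41,42,43,44,45,46,47,48], [38,39,40,41,42,43,44,45,46,47], 24, 24, 0x3ff, 10, 0x7f,
  fun a x => look 0xffffff (nth tc0T 0 a) x, fun x => look 0xffffff tc0d x, tc0r⟩
noncomputable def tc1T : List ℕ := [0,0,0,0,0,0,0,0,0,0,0,0,0,0,0,0,0,0,0,0,0,0,0,0,0,0,0,0,0,0,0,0,0,0,0,0,0,0,tc1t38,tc1t39,tc1t40,tc1t41,tc1t42,tc1t43,tc1t44,tc1t45,tc1t46,tc1t47]
noncomputable def tc1r : Tr Rule := (.node (.node (.node (.node (.node (.node (.node (.leaf ⟨47,[47],33,1⟩) (.leaf ⟨44,[40,41,45,46,40,44,46,40],30,5⟩)) (.leaf ⟨38,[40,41,47,45,38,45,47],39,5⟩)) (.node (.node (.leaf ⟨38,[41,38,41],6,0⟩) (.leaf ⟨44,[46,40,44,40,41,45,46,40],30,2⟩)) (.leaf ⟨42,[45,42,45],25,3⟩))) (.node (.node (.node (.leaf ⟨42,[43],10,0⟩) (.leaf ⟨40,[46,40,46,40,46],28,3⟩)) (.leaf ⟨47,[40,44,40,47,44,40,47,44],41,5⟩))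 (.node (.leaf ⟨41,[47,41,47,39,40],37,5⟩) (.leaf ⟨40,[42,39,43,38,39],16,5⟩)))) (.node (.node (.node (.node (.leaf ⟨39,[39],1,1⟩) (.leaf ⟨45,[41,45,41],24,2⟩)) (.leaf ⟨39,[42,38,40,43],15,1⟩)) (.node (.node (.leaf ⟨40,[47,40,47],35,3⟩) (.leaf ⟨47,[46,38,40,46,39,46,47,42],42,0⟩)) (.leaf ⟨42,[42,42],12,1⟩))) (.node (.node (.node (.leaf ⟨38,[41,38,41],6,2⟩) (.leaf ⟨44,[45,46,47,42,46,43,47,45],43,3⟩)) (.leaf ⟨39,[47,38,47,38],36,4⟩)) (.node (.leaf ⟨41,[47,39,40,41,47],37,1⟩) (.leaf ⟨46,[43,47,45,44,45,46,47,42],43,8⟩))))) (.node (.node (.node (.node (.node (.leaf ⟨45,[45],22,1⟩) (.leaf ⟨45,[40,45,40],23,2⟩)) (.leaf ⟨41,[43,38,42,38],14,4⟩)) (.node (.node (.leaf ⟨39,[47,39,47],34,3⟩) (.leaf ⟨42,[44,41,44,38,44],19,5⟩)) (.leaf ⟨44,[38,44,42,44,41],19,2⟩))) (.node (.node (.node (.leaf ⟨38,[39,38,39],4,2⟩) (.leaf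 ⟨46,[38,40,46,39,46,47,42,47],42,1⟩)) (.leaf ⟨47,[39,47,39],34,2⟩)) (.node (.leaf ⟨39,[45,47,39,40,47,45],38,2⟩) (.leaf ⟨47,[40,47,40],35,2⟩)))) (.node (.node (.node (.node (.leaf ⟨41,[41],3,1⟩) (.leaf ⟨40,[38,40,38],5,3⟩)) (.leaf ⟨45,[47,45,47,45,47,45,47],40,5⟩)) (.node (.leaf ⟨44,[40,44,40,44,40],21,4⟩) (.leaf ⟨42,[38,43,41],13,0⟩))) (.node (.node (.node (.leaf ⟨39,[41,39,41],8,2⟩) (.leaf ⟨39,[46,47,42,47,46,38,40,46],42,5⟩)) (.leaf ⟨40,[47,40,47],35,1⟩)) (.node (.leaf ⟨40,[43,39,42,38],15,4⟩) (.leaf ⟨46,[38,42,45,46,41,42,44],29,0⟩)))))) (.node (.node (.node (.node (.node (.node (.leaf ⟨44,[44],17,1⟩) (.leaf ⟨45,[46,40,44,46,40,44,40,41],30,8⟩)) (.leaf ⟨41,[42,38,43],13,3⟩)) (.node (.node (.leaf ⟨42,[42,42],12,2⟩) (.leaf ⟨41,[38,46,38,41,46,38,41,46],31,4⟩)) (.leaf ⟨42,[44,41,42,44,41],18,5⟩))) (.node (.node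 (.node (.leaf ⟨46,[46],27,1⟩) (.leaf ⟨46,[45,44,45,46,45,44,45],32,1⟩)) (.leaf ⟨47,[44,47,40,44,40,47,44,40],41,3⟩)) (.node (.leaf ⟨41,[45,41,45],24,3⟩) (.leaf ⟨41,[40,41,40],9,1⟩)))) (.node (.node (.node (.node (.leaf ⟨40,[40],2,1⟩) (.leaf ⟨39,[38,39,38],4,3⟩)) (.leaf ⟨39,[43,38,39,40,42],16,1⟩)) (.node (.leaf ⟨40,[45,40,45],23,3⟩) (.leaf ⟨43,[39,42,38,40],15,0⟩))) (.node (.node (.node (.leaf ⟨39,[40,39,40],7,2⟩) (.leaf ⟨47,[45,44,45,46,47,42,46,43],43,1⟩)) (.leaf ⟨47,[41,47,39,40,41],37,0⟩)) (.node (.leaf ⟨38,[43,41,42],13,1⟩) (.leaf ⟨46,[41,42,44,46,38,42,45],29,4⟩))))) (.node (.node (.node (.node (.node (.leaf ⟨38,[38],0,1⟩) (.leaf ⟨42,[45,42,45],25,1⟩)) (.leaf ⟨38,[42,38,41,43],14,1⟩)) (.node (.node (.leaf ⟨44,[39,44,39,44,39],20,4⟩) (.leaf ⟨45,[46,41,42,44,46,38,42],29,3⟩)) (.leaf ⟨43,[41,42,38],13,2⟩)))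 (.node (.node (.node (.leaf ⟨38,[40,38,40],5,2⟩) (.leaf ⟨46,[40,46,40,46,40],28,4⟩)) (.leaf ⟨47,[38,39,47,38],36,2⟩)) (.node (.leaf ⟨39,[40,47,45,39,45,47],38,5⟩) (.leaf ⟨43,[38,39,40,42,39],16,2⟩)))) (.node (.node (.node (.node (.leaf ⟨43,[42],10,1⟩) (.leaf ⟨46,[45,44,45,46,45,44,45],32,5⟩)) (.leaf ⟨45,[42,45,42],25,2⟩)) (.node (.leaf ⟨38,[39,47,38,47],36,3⟩) (.leaf ⟨44,[41,42,44,41,42],18,3⟩))) (.node (.node (.node (.leaf ⟨40,[41,40,41],9,2⟩) (.leaf ⟨38,[40,46,39,46,47,42,47,46],42,2⟩)) (.leaf ⟨42,[47,46,38,40,46,39,46,47],42,8⟩)) (.node (.leaf ⟨38,[45,47,38,40,41,47,45],39,2⟩) (.leaf ⟨46,[40,46,40,46,40],28,2⟩)))))))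
noncomputable def tc1 : TCL := ⟨[38,39,40,41,42,43,44,45,46,47], [38,39,40,41,42,43,44,45,46], 23, 24, 0x3ff, 10, 0x7f,
  fun a x => look 0xffffff (nth tc1T 0 a) x, fun x => look 0xffffff tc1d x, tc1r⟩
noncomputable def tc2T : List ℕ := [0,0,0,0,0,0,0,0,0,0,0,0,0,0,0,0,0,0,0,0,0,0,0,0,0,0,0,0,0,0,0,0,0,0,0,0,0,0,tc2t38,tc2t39,tc2t40,tc2t41,tc2t42,tc2t43,tc2t44,tc2t45,tc2t46]
noncomputable def tc2r : Tr Rule := (.node (.node (.node (.node (.node (.node (.leaf ⟨46,[46],27,1⟩) (.leaf ⟨40,[41,40,41],9,0⟩)) (.node (.leaf ⟨42,[39,43,38,39,40],16,0⟩) (.leaf ⟨38,[42,38,41,43],14,1⟩))) (.node (.node (.leaf ⟨44,[44],17,1⟩) (.leaf ⟨40,[46,40,46,40,46],28,3⟩)) (.node (.leaf ⟨41,[39,41,39],8,3⟩) (.leaf ⟨42,[38,43,41],13,0⟩)))) (.node (.node (.node (.leaf ⟨41,[41],3,1⟩) (.leaf ⟨44,[41,42,44,41,42],18,0⟩)) (.node (.leaf ⟨40,[38,40,38],5,1⟩)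 (.leaf ⟨38,[42,45,46,41,42,44,46],29,1⟩))) (.node (.node (.leaf ⟨46,[40,46,40,46,40],28,4⟩) (.leaf ⟨44,[42,44,41,44,38],19,4⟩)) (.node (.leaf ⟨41,[42,38,43],13,3⟩) (.leaf ⟨45,[46,45,44,45,46,45,44],32,4⟩))))) (.node (.node (.node (.node (.leaf ⟨39,[39],1,1⟩) (.leaf ⟨42,[38,41,43,38],14,2⟩)) (.node (.leaf ⟨42,[44,46,38,42,45,46,41],29,6⟩) (.leaf ⟨46,[38,42,45,46,41,42,44],29,0⟩))) (.node (.node (.leaf ⟨38,[41,38,41],6,2⟩) (.leaf ⟨46,[38,41,46,38,41,46,41,38],31,6⟩)) (.node (.leaf ⟨42,[42,42],12,2⟩) (.leaf ⟨44,[38,44,42,44,41],19,2⟩)))) (.node (.node (.node (.leaf ⟨45,[45],22,1⟩) (.leaf ⟨39,[44,39,44,39,44],20,3⟩)) (.node (.leaf ⟨39,[42,38,40,43],15,1⟩) (.leaf ⟨38,[40,38,40],5,2⟩))) (.node (.node (.leaf ⟨42,[42,42],12,1⟩) (.leaf ⟨45,[42,45,42],25,2⟩)) (.node (.leaf ⟨40,[41,40,41],9,2⟩) (.leaf ⟨42,[45,42,45],25,1⟩))))))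 (.node (.node (.node (.node (.node (.leaf ⟨38,[38],0,1⟩) (.leaf ⟨45,[40,45,40],23,2⟩)) (.node (.leaf ⟨44,[46,40,44,40,41,45,46,40],30,2⟩) (.leaf ⟨40,[42,39,43,38,39],16,5⟩))) (.node (.node (.leaf ⟨38,[39,38,39],4,2⟩) (.leaf ⟨46,[40,44,40,41,45,46,40,44],30,3⟩)) (.node (.leaf ⟨43,[41,42,38],13,2⟩) (.leaf ⟨45,[41,45,41],24,2⟩)))) (.node (.node (.node (.leaf ⟨42,[43],10,0⟩) (.leaf ⟨40,[44,40,44,40,44],21,3⟩)) (.node (.leaf ⟨40,[38,40,38],5,3⟩) (.leaf ⟨39,[38,39,38],4,3⟩))) (.node (.node (.leaf ⟨42,[45,46,41,42,44,46,38],29,2⟩) (.leaf ⟨41,[38,41,38],6,1⟩)) (.node (.leaf ⟨41,[43,38,42,38],14,4⟩) (.leaf ⟨41,[45,41,45],24,1⟩))))) (.node (.node (.node (.node (.leaf ⟨40,[40],2,1⟩) (.leaf ⟨43,[38,39,40,42,39],16,2⟩)) (.node (.leaf ⟨38,[43,41,42],13,1⟩) (.leaf ⟨45,[41,44,41,45,44,41,45,44],26,5⟩))) (.node (.node (.leaf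 ⟨39,[40,39,40],7,2⟩) (.leaf ⟨44,[45,46,45,44,45,46,45],32,3⟩)) (.node (.leaf ⟨42,[44,41,44,38,44],19,5⟩) (.leaf ⟨44,[39,44,39,44,39],20,0⟩)))) (.node (.node (.node (.leaf ⟨43,[42],10,1⟩) (.leaf ⟨46,[41,42,44,46,38,42,45],29,4⟩)) (.node (.leaf ⟨38,[44,42,44,41,44],19,3⟩) (.leaf ⟨41,[38,41,38],6,3⟩))) (.node (.node (.leaf ⟨45,[42,45,42],25,0⟩) (.leaf ⟨44,[39,44,39,44,39],20,4⟩)) (.leaf ⟨45,[41,45,41],24,0⟩))))))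
noncomputable def tc2 : TCL := ⟨[38,39,40,41,42,43,44,45,46], [38,39,40,41,42,43,44,45], 22, 24, 0x3ff, 10, 0x7f,
  fun a x => look 0xffffff (nth tc2T 0 a) x, fun x => look 0xffffff tc2d x, tc2r⟩
noncomputable def tc3T : List ℕ := [0,0,0,0,0,0,0,0,0,0,0,0,0,0,0,0,0,0,0,0,0,0,0,0,0,0,0,0,0,0,0,0,0,0,0,0,0,0,tc3t38,tc3t39,tc3t40,tc3t41,tc3t42,tc3t43,tc3t44,tc3t45]
noncomputable def tc3r : Tr Rule := (.node (.node (.node (.node (.node (.node (.leaf ⟨45,[45],22,1⟩) (.leaf ⟨41,[40,41,40],9,1⟩)) (.node (.leaf ⟨40,[45,40,45],23,3⟩) (.leaf ⟨42,[45,42,45],25,1⟩))) (.node (.node (.leaf ⟨38,[39,38,39],4,2⟩) (.leaf ⟨39,[44,39,44,39,44],20,5⟩)) (.leaf ⟨44,[38,44,42,44,41],19,2⟩))) (.node (.node (.node (.leaf ⟨40,[40],2,1⟩) (.leaf ⟨40,[44,40,44,40,44],21,3⟩)) (.leaf ⟨42,[45,42,45],25,3⟩)) (.node (.node (.leaf ⟨39,[41,39,41],8,2⟩)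 (.leaf ⟨45,[41,44,41,45,44,41,45,44],26,5⟩)) (.leaf ⟨43,[39,42,38,40],15,0⟩)))) (.node (.node (.node (.node (.leaf ⟨38,[38],0,1⟩) (.leaf ⟨40,[43,39,42,38],15,4⟩)) (.node (.leaf ⟨39,[44,39,44,39,44],20,3⟩) (.leaf ⟨39,[38,39,38],4,3⟩))) (.node (.node (.leaf ⟨38,[41,38,41],6,2⟩) (.leaf ⟨41,[42,38,43],13,3⟩)) (.leaf ⟨42,[42,42],12,1⟩))) (.node (.node (.node (.leaf ⟨43,[42],10,1⟩) (.leaf ⟨38,[44,42,44,41,44],19,3⟩)) (.leaf ⟨39,[42,38,40,43],15,1⟩)) (.node (.node (.leaf ⟨38,[40,38,40],5,0⟩) (.leaf ⟨45,[40,45,40],23,2⟩)) (.leaf ⟨44,[41,42,44,41,42],18,3⟩))))) (.node (.node (.node (.node (.node (.leaf ⟨44,[44],17,1⟩) (.leaf ⟨42,[42,42],12,2⟩)) (.node (.leaf ⟨44,[40,44,40,44,40],21,4⟩) (.leaf ⟨45,[41,45,41],24,2⟩))) (.node (.node (.leaf ⟨38,[40,38,40],5,2⟩) (.leaf ⟨42,[44,41,44,38,44],19,5⟩)) (.leaf ⟨43,[41,42,38],13,2⟩)))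 (.node (.node (.node (.leaf ⟨41,[41],3,1⟩) (.leaf ⟨40,[44,40,44,40,44],21,5⟩)) (.leaf ⟨38,[43,41,42],13,1⟩)) (.node (.node (.leaf ⟨40,[41,40,41],9,2⟩) (.leaf ⟨45,[44,45,41,44,41,45,44,41],26,3⟩)) (.leaf ⟨42,[38,43,41],13,0⟩)))) (.node (.node (.node (.node (.leaf ⟨39,[39],1,1⟩) (.leaf ⟨43,[38,39,40,42,39],16,2⟩)) (.node (.leaf ⟨41,[45,41,45],24,3⟩) (.leaf ⟨40,[38,40,38],5,3⟩))) (.node (.node (.leaf ⟨39,[40,39,40],7,2⟩) (.leaf ⟨38,[40,43,39,42],15,3⟩)) (.leaf ⟨44,[39,44,39,44,39],20,4⟩))) (.node (.node (.node (.leaf ⟨42,[43],10,0⟩) (.leaf ⟨41,[44,38,44,42,44],19,1⟩)) (.leaf ⟨42,[44,41,42,44,41],18,5⟩)) (.node (.node (.leaf ⟨38,[41,38,41],6,0⟩) (.leaf ⟨45,[42,45,42],25,2⟩)) (.leaf ⟨40,[42,39,43,38,39],16,5⟩))))))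
noncomputable def tc3 : TCL := ⟨[38,39,40,41,42,43,44,45], [38,39,40,41,42,43,44], 21, 20, 0x1ff, 9, 0x3f,
  fun a x => look 0xfffff (nth tc3T 0 a) x, fun x => look 0xfffff tc3d x, tc3r⟩
noncomputable def tc4T : List ℕ := [0,0,0,0,0,0,0,0,0,0,0,0,0,0,0,0,0,0,0,0,0,0,0,0,0,0,0,0,0,0,0,0,0,0,0,0,0,0,tc4t38,tc4t39,tc4t40,tc4t41,tc4t42,tc4t43,tc4t44]
noncomputable def tc4r : Tr Rule := (.node (.node (.node (.node (.node (.node (.leaf ⟨44,[44],17,1⟩) (.leaf ⟨44,[41,42,44,41,42],18,3⟩)) (.leaf ⟨42,[44,41,42,44,41],18,5⟩)) (.node (.node (.leaf ⟨38,[40,38,40],5,2⟩) (.leaf ⟨38,[40,43,39,42],15,3⟩)) (.leaf ⟨42,[42,42],12,2⟩))) (.node (.node (.node (.leaf ⟨41,[41],3,1⟩) (.leaf ⟨44,[40,44,40,44,40],21,4⟩)) (.leaf ⟨38,[39,40,42,39,43],16,3⟩)) (.node (.leaf ⟨40,[41,40,41],9,2⟩) (.leaf ⟨44,[42,44,41,44,38],19,4⟩)))) (.node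 (.node (.node (.node (.leaf ⟨39,[39],1,1⟩) (.leaf ⟨38,[44,42,44,41,44],19,3⟩)) (.leaf ⟨42,[42,42],12,1⟩)) (.node (.node (.leaf ⟨39,[40,39,40],7,2⟩) (.leaf ⟨41,[42,38,43],13,3⟩)) (.leaf ⟨43,[38,39,40,42,39],16,2⟩))) (.node (.node (.node (.leaf ⟨42,[43],10,0⟩) (.leaf ⟨44,[40,44,40,44,40],21,2⟩)) (.leaf ⟨40,[38,40,38],5,3⟩)) (.node (.leaf ⟨38,[41,38,41],6,0⟩) (.leaf ⟨44,[39,44,39,44,39],20,4⟩))))) (.node (.node (.node (.node (.node (.leaf ⟨38,[38],0,1⟩) (.leaf ⟨42,[44,41,44,38,44],19,5⟩)) (.leaf ⟨43,[41,42,38],13,2⟩)) (.node (.node (.leaf ⟨38,[41,38,41],6,2⟩) (.leaf ⟨39,[43,38,39,40,42],16,1⟩)) (.leaf ⟨40,[43,39,42,38],15,4⟩))) (.node (.node (.node (.leaf ⟨43,[42],10,1⟩) (.leaf ⟨40,[44,40,44,40,44],21,3⟩)) (.leaf ⟨42,[38,43,41],13,0⟩)) (.node (.leaf ⟨38,[40,38,40],5,0⟩) (.leaf ⟨44,[38,44,42,44,41],19,2⟩)))) (.node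 (.node (.node (.node (.leaf ⟨40,[40],2,1⟩) (.leaf ⟨41,[44,38,44,42,44],19,1⟩)) (.leaf ⟨43,[39,42,38,40],15,0⟩)) (.node (.leaf ⟨39,[41,39,41],8,2⟩) (.leaf ⟨41,[40,41,40],9,1⟩))) (.node (.node (.node (.leaf ⟨38,[39,38,39],4,2⟩) (.leaf ⟨44,[41,44,38,44,42],19,0⟩)) (.leaf ⟨41,[38,41,38],6,3⟩)) (.node (.leaf ⟨39,[41,39,41],8,0⟩) (.leaf ⟨39,[44,39,44,39,44],20,3⟩))))))
noncomputable def tc4 : TCL := ⟨[38,39,40,41,42,43,44], [38,39,40,41,42,43], 20, 20, 0x1ff, 9, 0x3f,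
  fun a x => look 0xfffff (nth tc4T 0 a) x, fun x => look 0xfffff tc4d x, tc4r⟩
noncomputable def tc5T : List ℕ := [0,0,0,0,0,0,0,0,0,0,0,0,0,0,0,0,0,0,0,0,0,0,0,0,0,0,0,0,0,0,0,0,0,0,0,0,0,0,tc5t38,tc5t39,tc5t40,tc5t41,tc5t42,tc5t43]
noncomputable def tc5r : Tr Rule := (.node (.node (.node (.node (.leaf ⟨43,[42],10,1⟩) (.leaf ⟨39,[42,38,40,43],15,1⟩)) (.leaf ⟨38,[43,41,42],13,1⟩)) (.node (.node (.leaf ⟨42,[42,42],12,2⟩) (.leaf ⟨39,[40,42,39,43,38],16,4⟩)) (.leaf ⟨38,[42,38,41,43],14,1⟩))) (.node (.node (.node (.leaf ⟨42,[43],10,0⟩) (.leaf ⟨40,[42,39,43,38,39],16,5⟩)) (.leaf ⟨41,[43,38,42,38],14,4⟩)) (.node (.leaf ⟨41,[42,38,43],13,3⟩) (.leaf ⟨40,[43,39,42,38],15,4⟩))))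
noncomputable def tc5 : TCL := ⟨[38,39,40,41,42,43], [38,39,40,41], 3, 16, 0x3f, 6, 0xf,
  fun a x => look 0xffff (nth tc5T 0 a) x, fun x => look 0xffff tc5d x, tc5r⟩
noncomputable def tc6T : List ℕ := [0,0,0,0,0,0,0,0,0,0,0,0,0,0,0,0,0,0,0,0,0,0,0,0,0,0,0,0,0,0,0,0,0,0,0,0,0,0,tc6t38,tc6t39,tc6t40,tc6t41]
noncomputable def tc6r : Tr Rule := (.node (.node (.node (.node (.leaf ⟨38,[38],0,1⟩) (.leaf ⟨39,[41,39,41],8,2⟩)) (.leaf ⟨38,[39,38,39],4,2⟩)) (.node (.leaf ⟨40,[40],2,1⟩) (.leaf ⟨38,[41,38,41],6,2⟩))) (.node (.node (.node (.leaf ⟨39,[39],1,1⟩) (.leaf ⟨40,[41,40,41],9,2⟩)) (.leaf ⟨38,[40,38,40],5,2⟩)) (.node (.leaf ⟨41,[41],3,1⟩) (.leaf ⟨39,[40,39,40],7,2⟩))))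
noncomputable def tc6 : TCL := ⟨[38,39,40,41], [], 16, 20, 0x1ff, 9, 0xf,
  fun a x => look 0xfffff (nth tc6T 0 a) x, fun x => look 0xfffff tc6d x, tc6r⟩
noncomputable def tc : List TCL := [tc0, tc1, tc2, tc3, tc4, tc5, tc6]
noncomputable def inW : List (List ℕ) := [[40,44,47,48,47,38,44,47,44,39,38,46,45,42,39,44,43],
  [43,39,38,44,47,48,41,39,38,44,47,40,39,46,45,39,44,45,41,39,38,44,42,41,39,38],
  [41,39,44,47,48,41,40,44,47,45,46,41,39,44,45,41,39,44,43,41,40,38]]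
noncomputable def tcS : List ℕ := [38,39,40,41,42,43,44,45,46,47,48]

end Cfsg.Agent.CG.M24
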