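import Cfsg.Agent.Lib.Grp.M24.ODefs

set_option autoImplicit false
set_option maxRecDepth 100000

namespace Cfsg.Agent.CG.M24

theorem Oc153 : cc0.chk (appT tabs t73 0xff) 1 7 = true := by decide +kernel
theorem Oc154 : cc1.chk (appT tabs t73 0xff) 1 6 = true := by decide +kernel
theorem Oc155 : cc2.chk (appT tabs t73 0xff) 1 15 = true := by decide +kernel
theorem Oc156 : cc3.chk (appT tabs t73 0xff) 1 5 = true := by decide +kernel
theorem Oc157 : cc4.chk (appT tabs t73 0xff) 1 3 = true := by decide +kernel
theorem Oc158 : okcb 24 8 (bases cc) = true := by decide +kernel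
theorem Oc159 : headAll (appT tabs t73 0xff) cc [] = true := by decide +kernel
theorem Oc160 : tp0.head tpR = true := by decide +kernel
theorem Oc161 : allL (fun a => tp0.chk a 0 tp0.N) tp0.S = true := by decide +kernel
theorem Oc162 : tp1.head tpR = true := by decide +kernel
theorem Oc163 : allL (fun a => tp1.chk a 0 tp1.N) tp1.S = true := by decide +kernel
theorem Oc164 : tp2.head tpR = true := by decide +kernel
theorem Oc165 : allL (fun a => tp2.chk a 0 tp2.N) tp2.S = true := by decide +kernel
theorem Oc166 : tp3.head tpR = true := by decide +kernel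
theorem Oc167 : allL (fun a => tp3.chk a 0 tp3.N) tp3.S = true := by decide +kernel
theorem Oc168 : tcLink tp [] [49,50,51,52,53] = true := by decide +kernel
theorem Oc169 : pc0.chk (appT tabs t73 0xff) 1 15 = true := by decide +kernel
theorem Oc170 : pc1.chk (appT tabs t73 0xff) 1 1 = true := by decide +kernel
theorem Oc171 : pc2.chk (appT tabs t73 0xff) 1 7 = true := by decide +kernel
theorem Oc172 : pc3.chk (appT tabs t73 0xff) 1 3 = true := by decide +kernel
theorem Oc173 : okcb 24 8 (bases pc) = true := by decide +kernel
theorem Oc174 : headAll (appT tabs t73 0xff) pc [] = true := by decide +kernel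
theorem Oc175 : allL (fun v => eqW (appT tabs t73 0xff) bs v []) tpR = true := by decide +kernel
theorem Oc176 : trChk (appT tabs t73 0xff) mc0 [mc1, mc2, mc3, mc4, mc5, mc6] bs (diagQ pQ) (diagQ pR) pF 0 24 = true := by decide +kernel
theorem Oc177 : classChk (appT tabs t73 0xff) bs 10 2 54 [13,9,19,17,22,26,25,29,30,33,36] pS pF pU = true := by decide +kernel
theorem Oc178 : powChk (appT tabs t73 0xff) bs 8 23 aK nK = true := by decide +kernel
theorem Oc179 : en.chk (appT tabs t73 0xff) tst 0 3346 0 22553870520549512 = true := by decide +kernel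
theorem Oc180 : en.chk (appT tabs t73 0xff) tst 3346 3346 22553870520549512 40585482576337072 = true := by decide +kernel
theorem Oc181 : en.chk (appT tabs t73 0xff) tst 6692 3346 40585482576337072 42969225665996984 = true := by decide +kernel
theorem Oc182 : en.chk (appT tabs t73 0xff) tst 10038 1347 42969225665996984 51985599512479745 = true := by decide +kernel
theorem Oc183 : commAll (appT tabs t73 0xff) bs 10 cc = true := by decide +kernel
theorem Oc184 : relChk (appT tabs t73 0xff) bs 8 10 rT = true := by decide +kernel

end Cfsg.Agent.CG.M24
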