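import Cfsg.Agent.Lib.Grp.M24.OD1
import Cfsg.Agent.Lib.Grp.M24.Defs

set_option autoImplicit false
set_option maxRecDepth 100000

namespace Cfsg.Agent.CG.M24

noncomputable def cc0 : Lvl := ⟨0, [55,56,57,58], 8,
  fun i => look 0xff cc0c (Nat.mul 8 i), fun i => look 0xf cc0p (Nat.mul 4 i),
  fun i => look 255 cc0l (Nat.mul 8 i), fun i => look 255 cc0i (Nat.mul 8 i), fun x => look 0xff cc0q x, 2⟩
noncomputable def cc1 : Lvl := ⟨136, [59,60], 7,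
  fun i => look 0xff cc1c (Nat.mul 8 i), fun i => look 0xf cc1p (Nat.mul 4 i),
  fun i => look 255 cc1l (Nat.mul 8 i), fun i => look 255 cc1i (Nat.mul 8 i), fun x => look 0xff cc1q x, 3⟩
noncomputable def cc2 : Lvl := ⟨176, [61,62,63,64], 16,
  fun i => look 0xff cc2c (Nat.mul 8 i), fun i => look 0xff cc2p (Nat.mul 8 i),
  fun i => look 255 cc2l (Nat.mul 8 i), fun i => look 255 cc2i (Nat.mul 8 i), fun x => look 0xff cc2q x, 4⟩
noncomputable def cc3 : Lvl := ⟨8, [65,66,67,68], 6,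
  fun i => look 0xff cc3c (Nat.mul 8 i), fun i => look 0xf cc3p (Nat.mul 4 i),
  fun i => look 255 cc3l (Nat.mul 8 i), fun i => look 255 cc3i (Nat.mul 8 i), fun x => look 0xff cc3q x, 2⟩
noncomputable def cc4 : Lvl := ⟨160, [69,70], 4,
  fun i => look 0xff cc4c (Nat.mul 8 i), fun i => look 0xf cc4p (Nat.mul 4 i),
  fun i => look 255 cc4l (Nat.mul 8 i), fun i => look 255 cc4i (Nat.mul 8 i), fun x => look 0xff cc4q x, 2⟩
noncomputable def cc : List Lvl := [cc0, cc1, cc2, cc3, cc4]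
noncomputable def pc0 : Lvl := ⟨0, [49,50,51,53], 16,
  fun i => look 0xff pc0c (Nat.mul 8 i), fun i => look 0xff pc0p (Nat.mul 8 i),
  fun i => look 255 pc0l (Nat.mul 8 i), fun i => look 255 pc0i (Nat.mul 8 i), fun x => look 0xff pc0q x, 6⟩
noncomputable def pc1 : Lvl := ⟨176, [52], 2,
  fun i => look 0xff pc1c (Nat.mul 8 i), fun i => look 0xf pc1p (Nat.mul 4 i),
  fun i => look 255 pc1l (Nat.mul 8 i), fun i => look 255 pc1i (Nat.mul 8 i), fun x => look 0xff pc1q x, 1⟩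
noncomputable def pc2 : Lvl := ⟨8, [49,50,51], 8,
  fun i => look 0xff pc2c (Nat.mul 8 i), fun i => look 0xf pc2p (Nat.mul 4 i),
  fun i => look 255 pc2l (Nat.mul 8 i), fun i => look 255 pc2i (Nat.mul 8 i), fun x => look 0xff pc2q x, 4⟩
noncomputable def pc3 : Lvl := ⟨160, [49,50], 4,
  fun i => look 0xff pc3c (Nat.mul 8 i), fun i => look 0xf pc3p (Nat.mul 4 i),
  fun i => look 255 pc3l (Nat.mul 8 i), fun i => look 255 pc3i (Nat.mul 8 i), fun x => look 0xff pc3q x, 2⟩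
noncomputable def pc : List Lvl := [pc0, pc1, pc2, pc3]
noncomputable def tpR : List (List ℕ) := [[49,49],
  [50,50],
  [49,50,49,50],
  [51,51],
  [51,49,51,49,51,49,51,49],
  [51,50,51,49,51,50,51,49],
  [51,50,51,50,51,50,51,50],
  [52,52],
  [52,50,52,50],
  [52,51,52,51],
  [52,49,52,49,50],
  [53,53],
  [53,49,53,49],
  [53,50,53,50],
  [53,52,53,50,52],
  [53,51,53,51,53,51,53,51],
  [53,51,49,53,51,53,49,51,53,49,51,49]]
noncomputable def tp0T : List ℕ := [0,0,0,0,0,0,0,0,0,0,0,0,0,0,0,0,0,0,0,0,0,0,0,0,0,0,0,0,0,0,0,0,0,0,0,0,0,0,0,0,0,0,0,0,0,0,0,0,0,tp0t49,tp0t50,tp0t51,tp0t52,tp0t53]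
noncomputable def tp0r : Tr Rule := (.node (.node (.node (.node (.node (.leaf ⟨53,[53],11,1⟩) (.leaf ⟨52,[53,50,52,53],14,1⟩)) (.leaf ⟨50,[53,50,53],13,3⟩)) (.node (.node (.leaf ⟨49,[50,49,50],2,2⟩) (.leaf ⟨51,[53,49,51,49,53,51,49,53,51,53,49],16,7⟩)) (.leaf ⟨52,[51,52,51],9,2⟩))) (.node (.node (.node (.leaf ⟨49,[49],0,1⟩) (.leaf ⟨51,[53,51,53,51,53,51,53],15,5⟩)) (.leaf ⟨50,[51,50,51,50,51,50,51],6,5⟩)) (.node (.node (.leaf ⟨49,[51,49,51,49,51,49,51],4,5⟩) (.leaf ⟨51,[49,53,51,49,53,51,53,49,51,53,49],16,10⟩)) (.leaf ⟨52,[49,50,52,49],10,2⟩)))) (.node (.node (.node (.node (.leaf ⟨51,[51],3,1⟩) (.leaf ⟨52,[52],7,1⟩)) (.leaf ⟨50,[51,49,51,50,51,49,51],5,5⟩)) (.node (.node (.leaf ⟨49,[53,49,53],12,3⟩) (.leaf ⟨51,[53,49,51,53,49,51,49,53,51,49,53],16,4⟩)) (.leaf ⟨52,[50,52,50],8,2⟩))) (.node (.node (.node (.leaf ⟨50,[50],1,1⟩) (.leaf ⟨51,[52,51,52],9,3⟩)) (.leaf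 ⟨52,[53,52,53,50],14,4⟩)) (.node (.leaf ⟨49,[51,50,51,49,51,50,51],5,7⟩) (.leaf ⟨52,[49,52,49,50],10,0⟩)))))
noncomputable def tp0 : TCL := ⟨[49,50,51,52,53], [49,50,51,52], 16, 20, 0x1ff, 9, 0x1f,
  fun a x => look 0xfffff (nth tp0T 0 a) x, fun x => look 0xfffff tp0d x, tp0r⟩
noncomputable def tp1T : List ℕ := [0,0,0,0,0,0,0,0,0,0,0,0,0,0,0,0,0,0,0,0,0,0,0,0,0,0,0,0,0,0,0,0,0,0,0,0,0,0,0,0,0,0,0,0,0,0,0,0,0,tp1t49,tp1t50,tp1t51,tp1t52]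
noncomputable def tp1r : Tr Rule := (.node (.node (.leaf ⟨52,[52],7,1⟩) (.leaf ⟨51,[52,51,52],9,3⟩)) (.node (.leaf ⟨50,[52,50,52],8,3⟩) (.leaf ⟨49,[50,52,49,52],10,3⟩)))
noncomputable def tp1 : TCL := ⟨[49,50,51,52], [49,50,51], 2, 16, 0x3f, 6, 0x7,
  fun a x => look 0xffff (nth tp1T 0 a) x, fun x => look 0xffff tp1d x, tp1r⟩
noncomputable def tp2T : List ℕ := [0,0,0,0,0,0,0,0,0,0,0,0,0,0,0,0,0,0,0,0,0,0,0,0,0,0,0,0,0,0,0,0,0,0,0,0,0,0,0,0,0,0,0,0,0,0,0,0,0,tp2t49,tp2t50,tp2t51]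
noncomputable def tp2r : Tr Rule := (.node (.node (.node (.node (.leaf ⟨51,[51],3,1⟩) (.leaf ⟨50,[51,50,51,50,51,50,51],6,3⟩)) (.leaf ⟨49,[51,49,51,49,51,49,51],4,5⟩)) (.node (.leaf ⟨50,[50],1,1⟩) (.leaf ⟨49,[51,50,51,49,51,50,51],5,3⟩))) (.node (.node (.leaf ⟨49,[49],0,1⟩) (.leaf ⟨50,[51,49,51,50,51,49,51],5,5⟩)) (.node (.leaf ⟨49,[50,49,50],2,2⟩) (.leaf ⟨50,[51,50,51,50,51,50,51],6,5⟩))))
noncomputable def tp2 : TCL := ⟨[49,50,51], [49,50], 8, 16, 0xff, 8, 0xf,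
  fun a x => look 0xffff (nth tp2T 0 a) x, fun x => look 0xffff tp2d x, tp2r⟩
noncomputable def tp3T : List ℕ := [0,0,0,0,0,0,0,0,0,0,0,0,0,0,0,0,0,0,0,0,0,0,0,0,0,0,0,0,0,0,0,0,0,0,0,0,0,0,0,0,0,0,0,0,0,0,0,0,0,tp3t49,tp3t50]
noncomputable def tp3r : Tr Rule := (.node (.node (.leaf ⟨49,[49],0,1⟩) (.leaf ⟨49,[50,49,50],2,2⟩)) (.leaf ⟨50,[50],1,1⟩))
noncomputable def tp3 : TCL := ⟨[49,50], [], 4, 16, 0x7f, 7, 0x7,
  fun a x => look 0xffff (nth tp3T 0 a) x, fun x => look 0xffff tp3d x, tp3r⟩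
noncomputable def tp : List TCL := [tp0, tp1, tp2, tp3]
noncomputable def pS : List ℕ := [49,50,51,52,53]
noncomputable def pQ : List (List ℕ) := [[],
  [53,51,50,51,53],
  [53,51,50,49,51,53],
  [53],
  [53,51,53],
  [50,51,53],
  [53,51,49,51,53]]
noncomputable def pR : List (List ℕ) := [[49],
  [50],
  [51],
  [52],
  [53]]
noncomputable def pF : List (List ℕ) := [[],
  [12,9,18,22,22,21,24,26,25,31,29,37,35]]
noncomputable def pU : List (List ℕ) := [[14,9,9,16,18,16,16,20,23,26,28,32,37,36]]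
noncomputable def aK : List ℕ := [8,71]
noncomputable def nK : List (List ℕ × ℕ) := [([],0),
  ([],8),
  ([17,17,17,23,26,26,28,30,28,36,34],8),
  ([16,19,19,21,23,20,26,26,28,31,29,37],8),
  ([17,18,16,20,22,26,25,28,30,28,37,36,35],8),
  ([],71),
  ([16,16,21,24,24,29,33,34],8),
  ([16,16,21,24,24,29,33,34],71),
  ([16,18,16,16,20,23,29,30,33,37,34],8),
  ([16,18,18,21,23,20,24,27,30,28,32,36,34],8),
  ([17,17,17,23,26,26,28,30,28,36,34],71),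
  ([18,17,17,23,20,22,26,25,28,30,28,36,35,34],71),
  ([17,17,20,26,28,30,28,34],8),
  ([18,16,20,22,22,24,29,29,32,37],8),
  ([17,17,20,26,28,30,28,34],71),
  ([16,19,19,21,23,20,26,26,28,31,29,37],71),
  ([18,17,17,23,20,22,26,25,28,30,28,36,35,34],8),
  ([16,18,16,16,20,23,29,30,33,37,34],71),
  ([19,19,17,26,26,24,33,34],8),
  ([18,16,20,22,22,24,29,29,32,37],71),
  ([17,18,16,20,22,26,25,28,30,28,37,36,35],71),
  ([19,19,17,26,26,24,33,34],71),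
  ([16,18,18,21,23,20,24,27,30,28,32,36,34],71)]
noncomputable def rT : List (List ℕ × ℕ) := [([0,1,0,1,0,1,0,1],0),
  ([0,1,0,1,0,1,0,1],120),
  ([0,1,0,1,0,1,0,1],112),
  ([0,1,0,1,0,1,0,1],56),
  ([0,1,0,1,0,1,0,1],80),
  ([0,0,1,0,0,1,0,0,1,0,0,1,0,0,1,0,0,1,0,0,1,0,0,1],64),
  ([0,0,1,0,0,1,0,0,1,0,0,1,0,0,1,0,0,1,0,0,1,0,0,1],176),
  ([0,0,1,0,0,1,0,0,1,0,0,1,0,0,1,0,0,1,0,0,1,0,0,1],136),
  ([0,0,1,0,0,1,0,0,1,0,0,1,0,0,1,0,0,1,0,0,1,0,0,1],16),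
  ([0,1,0,0,0,1,0,0,1,0,1,0,0,0,1,0,0,1,0,1,0,0,0,1,0,0,1,0,1,0,0,0,1,0,0,1],16)]
noncomputable def uu : List (List ℕ) := [[],
  [8],
  [8,8],
  [9],
  [9,9],
  [9,9,15,16,18,16,16,23,20,22,30,37,36,35,34],
  [9,15,16,18,16,16,23,20,22,30,37,36,35,34],
  [10,8,17,17,25,25,25,28,32,36,34],
  [10,13,9,22,22,27,27,30,29,29,33,37,34],
  [11,15,9,16,16,16,20,22,21,26,29,29,33,37],
  [12,8,19,17,21,23,20,26,25,29,29],
  [12,9,22,21,24,27,30,28,37,35],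
  [12,15,19,19,20,23,26,26,24,32,37,35,34],
  [13,9,19,23,20,26,25,31,29,32,37,36,34],
  [13,10,8,20,20,22,24,24,31,29,37],
  [14,8,8,18,16,16,20,20,26,26,28,30,37,35],
  [14,9,9,19,20,20,22,26,24,29,30,28,33,37,36,34],
  [14,12,8,16,19,17,22,21,25,25,31,29,30,28,32,34],
  [14,13,9,18,16,16,21,23,27,27,28,32,35,34],
  [14,13,17,23,21,26,29,30,28,33],
  [15,9,23,20,24,28,31,29,32,37,35,34],
  [15,15,17,18,16,16,27,27,29,31,29,29,32,35,34],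
  [15,16,18,16,16,23,20,22,30,37,36,35,34]]
noncomputable def wT : Tr ℕ := (.node (.node (.node (.node (.leaf w0) (.leaf w8)) (.leaf w4)) (.node (.node (.leaf w2) (.leaf w10)) (.leaf w6))) (.node (.node (.node (.leaf w1) (.leaf w9)) (.leaf w5)) (.node (.node (.leaf w3) (.leaf w11)) (.leaf w7))))
noncomputable def en : Enum := ⟨inv, 8, 255, 4, fun i => force (Nat.shiftRight i 10) fun c => look 0xffffffff (wT.get c) (Nat.mul 32 (Nat.land i 1023)), 10, [0,136,176,8,160,96,144], 256⟩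
noncomputable def tst : (ℕ → ℕ) → Bool := outTest (appT tabs t73 0xff) bs aK rT [(8, 10)] uu

end Cfsg.Agent.CG.M24
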